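import Mathlib

/-!
# The Poincaré–Birkhoff–Witt theorem
-/

noncomputable section

universe u v w

open UniversalEnvelopingAlgebra

namespace Groth.Agent.PBWRing

variable (k : Type u) [CommRing k] [Nontrivial k] {L : Type v} [LieRing L] [LieAlgebra k L]
  {ι : Type w} [LinearOrder ι]

/-- sorted lists -/
abbrev Mon (ι : Type w) [LinearOrder ι] := {l : List ι // l.SortedLE}

/-- the empty monomial -/
def nil : Mon ι := ⟨[], List.Pairwise.nil.sortedLE⟩

/-- insertion -/
def ins (i : ι) (m : Mon ι) : Mon ι :=
  ⟨m.1.orderedInsert (· ≤ ·) i, ((List.sortedLE_iff_pairwise.1 m.2).orderedInsert i _).sortedLE⟩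

lemma length_ins (i : ι) (m : Mon ι) : (ins i m).1.length = m.1.length + 1 :=
  List.orderedInsert_length (r := (· ≤ ·)) _ _

lemma tail_sorted {j : ι} {t : List ι} (h : (j :: t).SortedLE) : t.SortedLE :=
  ((List.pairwise_cons.1 (List.sortedLE_iff_pairwise.1 h)).2).sortedLE

lemma head_le {j : ι} {t : List ι} (h : (j :: t).SortedLE) : ∀ x ∈ t, j ≤ x :=
  (List.pairwise_cons.1 (List.sortedLE_iff_pairwise.1 h)).1

lemma ins_val_of_le {i : ι} {m : Mon ι} (h : ∀ x ∈ m.1, i ≤ x) : (ins i m).1 = i :: m.1 := by
  obtain ⟨l, hl⟩ := m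
  cases l with
  | nil => rfl
  | cons a l => exact List.orderedInsert_cons_of_le (r := (· ≤ ·)) _ (h a List.mem_cons_self)

lemma le_ins {j i : ι} {m : Mon ι} (hji : j ≤ i) (hjm : ∀ x ∈ m.1, j ≤ x) :
    ∀ x ∈ (ins i m).1, j ≤ x := by
  intro x hx
  rcases (List.mem_orderedInsert (r := (· ≤ ·))).1 hx with rfl | h
  · exact hji
  · exact hjm x h

lemma ins_tail {j : ι} {t : List ι} (h : (j :: t).SortedLE) :
    ins j ⟨t, tail_sorted h⟩ = ⟨j :: t, h⟩ :=
  Subtype.ext (ins_val_of_le (m := ⟨t, tail_sorted h⟩) (head_le h))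

lemma ins_cons_of_gt {i j : ι} {t : List ι} (h : (j :: t).SortedLE) (hij : ¬ i ≤ j) :
    ins j (ins i ⟨t, tail_sorted h⟩) = ins i ⟨j :: t, h⟩ := by
  refine Subtype.ext ?_
  rw [ins_val_of_le (le_ins (le_of_not_ge hij) (head_le h))]
  exact ((List.orderedInsert_cons (r := (· ≤ ·)) i j t).trans (if_neg hij)).symm

variable (b : Module.Basis ι k L)

/-- the space spanned by the monomials -/
abbrev Sp (ι : Type w) [LinearOrder ι] := Mon ι →₀ k

/-- monomial -/
abbrev z (m : Mon ι) : Sp k ι := Finsupp.single m 1

variable {k}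

/-- structure constants -/
def br (i j : ι) : ι →₀ k := b.repr ⁅b i, b j⁆

/-- the action of a basis vector on a monomial -/
def act (i : ι) : Mon ι → Sp k ι
  | ⟨[], _⟩ => z k (ins i nil)
  | ⟨j :: t, h⟩ =>
    if i ≤ j then z k (ins i ⟨j :: t, h⟩)
    else z k (ins i ⟨j :: t, h⟩) +
      ((act i ⟨t, tail_sorted h⟩ - z k (ins i ⟨t, tail_sorted h⟩)).sum fun m c =>
        if _hm : m.1.length ≤ t.length then c • act j m else 0) +
      ((br b i j).sum fun q c => c • act q ⟨t, tail_sorted h⟩)
termination_by m => m.1.length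
decreasing_by all_goals simp_wf <;> omega

/-- the action, extended linearly -/
def rho (i : ι) : Module.End k (Sp k ι) := Finsupp.linearCombination k (act b i)

lemma rho_z (i : ι) (m : Mon ι) : rho b i (z k m) = act b i m := by
  simp [rho]

/-- the representation of `L` -/
def Phi : L →ₗ[k] Module.End k (Sp k ι) := b.constr k (rho b)

lemma Phi_b (i : ι) : Phi b (b i) = rho b i := b.constr_basis k _ i

lemma Phi_apply (x : L) (v : Sp k ι) :
    Phi b x v = (b.repr x).sum fun q c => c • rho b q v := by
  rw [Phi, Module.Basis.constr_apply, Finsupp.sum, LinearMap.sum_apply]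
  rfl

/-- monomials of length at most `n` -/
abbrev low (n : ℕ) : Submodule k (Sp k ι) := Finsupp.supported k k {m : Mon ι | m.1.length ≤ n}

lemma z_mem_low {m : Mon ι} {n : ℕ} (h : m.1.length ≤ n) : z k m ∈ low (k := k) n :=
  Finsupp.single_mem_supported k 1 h

lemma low_mono {n n' : ℕ} (h : n ≤ n') : low (k := k) (ι := ι) n ≤ low (k := k) n' :=
  Finsupp.supported_mono fun _ hm => le_trans (show _ ≤ n from hm) h

theorem act_leading : ∀ (n : ℕ) (i : ι) (m : Mon ι), m.1.length ≤ n →
    act b i m - z k (ins i m) ∈ low (k := k) m.1.length := by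
  intro n
  induction n with
  | zero =>
    rintro i ⟨l, hl⟩ h
    obtain rfl : l = [] := List.length_eq_zero_iff.1 (Nat.le_zero.1 h)
    rw [act, show (⟨[], hl⟩ : Mon ι) = nil from rfl, sub_self]
    exact Submodule.zero_mem _
  | succ n ih =>
    have hact : ∀ (q : ι) (m : Mon ι), m.1.length ≤ n → act b q m ∈ low (k := k) (m.1.length + 1) := by
      intro q m hm
      have := Submodule.add_mem _ (low_mono (Nat.le_succ _) (ih q m hm))
        (z_mem_low (k := k) (le_of_eq (length_ins q m)))
      rwa [sub_add_cancel] at this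
    rintro i ⟨l, hl⟩ h
    cases l with
    | nil =>
      rw [act, show (⟨[], hl⟩ : Mon ι) = nil from rfl, sub_self]
      exact Submodule.zero_mem _
    | cons j t =>
      have ht : t.length ≤ n := by simpa using h
      rw [act]
      split_ifs with hij
      · rw [sub_self]; exact Submodule.zero_mem _
      · rw [add_assoc, add_sub_cancel_left]
        refine Submodule.add_mem _ (Submodule.sum_mem _ fun m _ => ?_) (Submodule.sum_mem _ fun q _ => ?_)
        · dsimp only
          split_ifs with hm
          · exact Submodule.smul_mem _ _ (low_mono (by simpa using hm) (hact j m (le_trans hm ht)))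
          · exact Submodule.zero_mem _
        · exact Submodule.smul_mem _ _ (low_mono (by simp) (hact q ⟨t, tail_sorted hl⟩ ht))

theorem act_sub_mem (i : ι) (m : Mon ι) : act b i m - z k (ins i m) ∈ low (k := k) m.1.length :=
  act_leading b _ i m le_rfl

theorem act_of_le {i : ι} {m : Mon ι} (h : ∀ x ∈ m.1, i ≤ x) : act b i m = z k (ins i m) := by
  obtain ⟨l, hl⟩ := m
  cases l with
  | nil => rw [act]; rfl
  | cons j t => rw [act, if_pos (h j List.mem_cons_self)]

theorem act_cons {i j : ι} {t : List ι} (h : (j :: t).SortedLE) (hij : ¬ i ≤ j) :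
    act b i ⟨j :: t, h⟩ = rho b j (act b i ⟨t, tail_sorted h⟩) +
      Phi b ⁅b i, b j⁆ (z k ⟨t, tail_sorted h⟩) := by
  set t' : Mon ι := ⟨t, tail_sorted h⟩ with ht'
  have h2 : Phi b ⁅b i, b j⁆ (z k t') = (br b i j).sum fun q c => c • act b q t' := by
    rw [Phi_apply]
    exact Finsupp.sum_congr fun q _ => by rw [rho_z]
  have h1 : rho b j (act b i t') = z k (ins i ⟨j :: t, h⟩) +
      ((act b i t' - z k (ins i t')).sum fun m c =>
        if _hm : m.1.length ≤ t.length then c • act b j m else 0) := by
    have e : act b i t' = z k (ins i t') + (act b i t' - z k (ins i t')) := by abel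
    conv_lhs => rw [e, map_add, rho_z, act_of_le b (le_ins (le_of_not_ge hij) (head_le h))]
    rw [ins_cons_of_gt h hij]
    congr 1
    rw [rho, Finsupp.linearCombination_apply]
    refine Finsupp.sum_congr fun m hm => ?_
    rw [dif_pos]
    exact (Finsupp.mem_supported k _).1 (act_sub_mem b i t') hm
  rw [h1, h2, act, if_neg hij]

/-- the commutation relation at `v` -/
def Comm (x y : L) (v : Sp k ι) : Prop :=
  Phi b x (Phi b y v) - Phi b y (Phi b x v) = Phi b ⁅x, y⁆ v

lemma comm_swap {x y : L} {v : Sp k ι} (h : Comm b x y v) : Comm b y x v := by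
  unfold Comm at *
  rw [← lie_skew y x, map_neg, LinearMap.neg_apply, ← h]
  abel

lemma comm_low {x y : L} {n : ℕ} (h : ∀ (i j : ι) (m : Mon ι), m.1.length ≤ n → Comm b (b i) (b j) (z k m))
    {v : Sp k ι} (hv : v ∈ low (k := k) n) : Comm b x y v := by
  let B : L →ₗ[k] L →ₗ[k] Module.End k (Sp k ι) :=
    LinearMap.mk₂ k (fun x y => Phi b x * Phi b y - Phi b y * Phi b x - Phi b ⁅x, y⁆)
      (fun x x' y => by simp only [map_add, add_lie, add_mul, mul_add]; abel)
      (fun c x y => by
        simp only [map_smul, smul_lie, smul_mul_assoc, mul_smul_comm]; module)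
      (fun x y y' => by simp only [map_add, lie_add, add_mul, mul_add]; abel)
      (fun c x y => by
        simp only [map_smul, lie_smul, smul_mul_assoc, mul_smul_comm]; module)
  have hB : ∀ i j, B (b i) (b j) v = 0 := by
    intro i j
    have hker : low (k := k) n ≤ LinearMap.ker (B (b i) (b j)) := by
      rw [low, Finsupp.supported_eq_span_single, Submodule.span_le]
      rintro _ ⟨m, hm, rfl⟩
      exact sub_eq_zero.2 (h i j m hm)
    exact hker hv
  have : ((LinearMap.applyₗ v).comp (B x)) y = 0 := by
    have hy : (LinearMap.applyₗ v).comp (B x) = 0 := b.ext fun j => by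
      have hx : (LinearMap.applyₗ v).comp (B.flip (b j)) = 0 := b.ext fun i => hB i j
      exact LinearMap.congr_fun hx x
    rw [hy, LinearMap.zero_apply]
  exact sub_eq_zero.1 this

theorem comm : ∀ (n : ℕ) (i j : ι) (m : Mon ι), m.1.length = n → Comm b (b i) (b j) (z k m) := by
  intro n
  induction n using Nat.strong_induction_on with
  | _ n ih =>
  have case1 : ∀ (i j : ι) (m : Mon ι), m.1.length = n → j < i → (∀ x ∈ m.1, j ≤ x) →
      Comm b (b i) (b j) (z k m) := by
    intro i j m _ hji hjm
    have hs : (j :: m.1).SortedLE := ins_val_of_le hjm ▸ (ins j m).2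
    have hm : (⟨m.1, tail_sorted hs⟩ : Mon ι) = m := rfl
    unfold Comm
    rw [Phi_b, Phi_b, rho_z, rho_z, act_of_le b hjm, rho_z,
      show ins j m = ⟨j :: m.1, hs⟩ from ins_tail hs, act_cons b hs (not_le_of_gt hji)]
    abel
  have case2 : ∀ (i j q : ι) (t : List ι) (h : (q :: t).SortedLE), t.length + 1 = n → q < i → q < j →
      Comm b (b i) (b j) (z k ⟨q :: t, h⟩) := by
    intro i j q t h hn hqi hqj
    set t' : Mon ι := ⟨t, tail_sorted h⟩ with ht'
    have htn : t'.1.length < n := by simp [ht']; omega
    have hlow : ∀ {v : Sp k ι} (x y : L), v ∈ low (k := k) t'.1.length → Comm b x y v :=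
      fun x y hv => comm_low b (fun i j m hm => ih _ (lt_of_le_of_lt hm htn) i j m rfl) hv
    have hzq : z k ⟨q :: t, h⟩ = rho b q (z k t') := by
      rw [rho_z, act_of_le b (head_le h), ← ins_tail h]
    have hzt : z k t' ∈ low (k := k) t'.1.length := z_mem_low le_rfl
    -- the relation with `b q` on `ρ j z_t`
    have key : ∀ i j : ι, q < i → q < j →
        rho b i (rho b q (rho b j (z k t'))) =
          rho b q (rho b i (rho b j (z k t'))) + Phi b ⁅b i, b q⁆ (rho b j (z k t')) := by
      intro i j hqi hqj
      have h1 : Comm b (b i) (b q) (z k (ins j t')) :=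
        case1 i q _ ((length_ins j t').trans (by simp [ht']; omega)) hqi (le_ins hqj.le (head_le h))
      have h2 : Comm b (b i) (b q) (act b j t' - z k (ins j t')) := hlow _ _ (act_sub_mem b j t')
      unfold Comm at h1 h2
      simp only [map_sub, Phi_b] at h1 h2
      rw [rho_z]
      rw [← sub_eq_zero] at h1 h2 ⊢
      rw [← h1, ← sub_eq_zero]
      rw [← h2]
      abel
    have keyj : ∀ i j : ι, q < i → q < j →
        rho b i (rho b j (z k ⟨q :: t, h⟩)) = rho b q (rho b i (rho b j (z k t'))) +
          Phi b ⁅b i, b q⁆ (rho b j (z k t')) + Phi b ⁅b j, b q⁆ (rho b i (z k t')) +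
          Phi b ⁅b i, ⁅b j, b q⁆⁆ (z k t') := by
      intro i j hqi hqj
      have h3 : Comm b (b j) (b q) (z k t') := hlow _ _ hzt
      have h4 : Comm b (b i) ⁅b j, b q⁆ (z k t') := hlow _ _ hzt
      unfold Comm at h3 h4
      simp only [Phi_b] at h3 h4
      rw [sub_eq_iff_eq_add] at h3 h4
      rw [hzq, h3, map_add, h4, key i j hqi hqj]
      abel
    have h5 : Comm b (b i) (b j) (z k t') := hlow _ _ hzt
    have h6 : Comm b ⁅b i, b j⁆ (b q) (z k t') := hlow _ _ hzt
    unfold Comm at h5 h6 ⊢
    simp only [Phi_b] at h5 h6 ⊢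
    rw [keyj i j hqi hqj, keyj j i hqj hqi, hzq]
    rw [sub_eq_iff_eq_add] at h6
    rw [h6, ← h5, map_sub]
    have hj : ⁅b i, ⁅b j, b q⁆⁆ = ⁅⁅b i, b j⁆, b q⁆ + ⁅b j, ⁅b i, b q⁆⁆ := leibniz_lie _ _ _
    rw [hj, map_add, LinearMap.add_apply]
    abel
  have case12 : ∀ (i j : ι) (m : Mon ι), m.1.length = n → j < i → Comm b (b i) (b j) (z k m) := by
    rintro i j ⟨l, hl⟩ hm hji
    cases l with
    | nil => exact case1 i j _ hm hji (by simp)
    | cons q t =>
      by_cases hjq : j ≤ q
      · refine case1 i j _ hm hji fun x hx => ?_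
        rcases List.mem_cons.1 hx with rfl | hx
        · exact hjq
        · exact hjq.trans (head_le hl x hx)
      · exact case2 i j q t hl (by simpa using hm) ((lt_of_not_ge hjq).trans hji) (lt_of_not_ge hjq)
  intro i j m hm
  rcases lt_trichotomy i j with hij | rfl | hij
  · exact comm_swap b (case12 j i m hm hij)
  · unfold Comm; simp
  · exact case12 i j m hm hij

theorem comm_all (x y : L) (v : Sp k ι) : Comm b x y v :=
  comm_low b (n := v.support.sup fun m => m.1.length) (fun i j m _ => comm b _ i j m rfl)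
    ((Finsupp.mem_supported k v).2 fun m hm => Finset.le_sup (f := fun m : Mon ι => m.1.length) hm)

attribute [local instance 100] LieRing.ofAssociativeRing

/-- the representation as a morphism of Lie algebras -/
def PhiHom : L →ₗ⁅k⁆ Module.End k (Sp k ι) :=
  { Phi b with
    map_lie' := fun {x y} => LinearMap.ext fun v => (comm_all b x y v).symm }

/-- the representation of the enveloping algebra -/
def PhiU : UniversalEnvelopingAlgebra k L →ₐ[k] Module.End k (Sp k ι) := lift k (PhiHom b)

/-- ordered monomials -/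
def mon (m : Mon ι) : UniversalEnvelopingAlgebra k L :=
  (m.1.map fun i => UniversalEnvelopingAlgebra.ι k (b i)).prod

lemma mon_nil : mon b (nil : Mon ι) = 1 := by simp [mon, nil]

lemma mon_cons {i : ι} {t : List ι} (h : (i :: t).SortedLE) :
    mon b ⟨i :: t, h⟩ = UniversalEnvelopingAlgebra.ι k (b i) * mon b ⟨t, tail_sorted h⟩ := by
  simp [mon]

lemma PhiU_mon : ∀ (l : List ι) (hl : l.SortedLE), PhiU b (mon b ⟨l, hl⟩) (z k nil) = z k ⟨l, hl⟩ := by
  intro l
  induction l with
  | nil =>
    intro hl
    rw [show (⟨[], hl⟩ : Mon ι) = nil from rfl, mon_nil, map_one, Module.End.one_apply]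
  | cons i t ih =>
    intro hl
    rw [mon_cons b hl, map_mul, Module.End.mul_apply, ih, PhiU, lift_ι_apply]
    show Phi b (b i) _ = _
    rw [Phi_b, rho_z, act_of_le b (head_le hl), ins_tail hl]

theorem linearIndependent_mon : LinearIndependent k (mon b) := by
  refine LinearIndependent.of_comp
    ((LinearMap.applyₗ (z k (nil : Mon ι))).comp (PhiU b).toLinearMap) ?_
  have : (⇑((LinearMap.applyₗ (z k (nil : Mon ι))).comp (PhiU b).toLinearMap) ∘ mon b) =
      fun m => z k m := funext fun m => PhiU_mon b m.1 m.2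
  rw [this]
  exact (Finsupp.basisSingleOne (R := k) (ι := Mon ι)).linearIndependent

/-- the span of the monomials of length at most `n` -/
def monLow (n : ℕ) : Submodule k (UniversalEnvelopingAlgebra k L) :=
  Submodule.span k (mon b '' {m | m.1.length ≤ n})

lemma mon_mem_monLow {m : Mon ι} {n : ℕ} (h : m.1.length ≤ n) : mon b m ∈ monLow b n :=
  Submodule.subset_span ⟨m, h, rfl⟩

lemma monLow_mono {n n' : ℕ} (h : n ≤ n') : monLow b n ≤ monLow b n' :=
  Submodule.span_mono (Set.image_mono fun _ hm => le_trans (show _ ≤ n from hm) h)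

theorem gen_mul_mon : ∀ (n : ℕ) (i : ι) (m : Mon ι), m.1.length ≤ n →
    UniversalEnvelopingAlgebra.ι k (b i) * mon b m - mon b (ins i m) ∈ monLow b m.1.length := by
  intro n
  induction n with
  | zero =>
    rintro i ⟨l, hl⟩ h
    obtain rfl : l = [] := List.length_eq_zero_iff.1 (Nat.le_zero.1 h)
    have : mon b (ins i ⟨[], hl⟩) = UniversalEnvelopingAlgebra.ι k (b i) * mon b ⟨[], hl⟩ := by
      simp [mon, ins]
    rw [this, sub_self]
    exact Submodule.zero_mem _
  | succ n ih =>
    have hgen : ∀ (q : ι) (N : ℕ), N ≤ n → ∀ u ∈ monLow b N,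
        UniversalEnvelopingAlgebra.ι k (b q) * u ∈ monLow b (N + 1) := by
      intro q N hN u hu
      induction hu using Submodule.span_induction with
      | mem u hu =>
        obtain ⟨m, hm, rfl⟩ := hu
        have hm' : m.1.length ≤ N := hm
        have := Submodule.add_mem _ (monLow_mono b (hm'.trans (Nat.le_succ N)) (ih q m (hm'.trans hN)))
          (mon_mem_monLow b (n := N + 1) (m := ins q m) (by rw [length_ins]; omega))
        rwa [sub_add_cancel] at this
      | zero => simp
      | add u v _ _ hu hv => rw [mul_add]; exact Submodule.add_mem _ hu hv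
      | smul c u _ hu => rw [mul_smul_comm]; exact Submodule.smul_mem _ _ hu
    rintro i ⟨l, hl⟩ h
    cases l with
    | nil =>
      have : mon b (ins i ⟨[], hl⟩) = UniversalEnvelopingAlgebra.ι k (b i) * mon b ⟨[], hl⟩ := by
        simp [mon, ins]
      rw [this, sub_self]
      exact Submodule.zero_mem _
    | cons j t =>
      have ht : t.length ≤ n := by simpa using h
      by_cases hij : i ≤ j
      · have : mon b (ins i ⟨j :: t, hl⟩) =
            UniversalEnvelopingAlgebra.ι k (b i) * mon b ⟨j :: t, hl⟩ := by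
          rw [mon, ins_val_of_le]
          · simp [mon]
          · intro x hx
            rcases List.mem_cons.1 hx with rfl | hx
            · exact hij
            · exact hij.trans (head_le hl x hx)
        rw [this, sub_self]
        exact Submodule.zero_mem _
      · set t' : Mon ι := ⟨t, tail_sorted hl⟩
        set e : ι → UniversalEnvelopingAlgebra k L := fun q => UniversalEnvelopingAlgebra.ι k (b q)
        have h1 : mon b (ins i ⟨j :: t, hl⟩) = e j * mon b (ins i t') := by
          rw [← ins_cons_of_gt hl hij]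
          show _ = e j * _
          rw [mon, ins_val_of_le (le_ins (le_of_not_ge hij) (head_le hl)), List.map_cons, List.prod_cons]
          rfl
        have h2 : e i * e j = e j * e i + UniversalEnvelopingAlgebra.ι k ⁅b i, b j⁆ := by
          simp only [e, LieHom.map_lie, LieRing.of_associative_ring_bracket]
          abel
        have h3 : e i * mon b ⟨j :: t, hl⟩ - mon b (ins i ⟨j :: t, hl⟩) =
            e j * (e i * mon b t' - mon b (ins i t')) +
              UniversalEnvelopingAlgebra.ι k ⁅b i, b j⁆ * mon b t' := by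
          rw [h1, mon_cons b hl, ← mul_assoc, h2]
          noncomm_ring
        show e i * _ - _ ∈ _
        rw [h3]
        refine Submodule.add_mem _ (hgen j _ ht _ (ih i t' ht)) ?_
        rw [← b.linearCombination_repr ⁅b i, b j⁆, Finsupp.linearCombination_apply, Finsupp.sum,
          ← LieHom.coe_toLinearMap, map_sum, Finset.sum_mul]
        refine Submodule.sum_mem _ fun q _ => ?_
        rw [map_smul, smul_mul_assoc]
        exact Submodule.smul_mem _ _ (hgen q _ ht _ (mon_mem_monLow b le_rfl))

theorem span_mon : ⊤ ≤ Submodule.span k (Set.range (mon b)) := by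
  set S := Submodule.span k (Set.range (mon b))
  have hle : ∀ n, monLow b n ≤ S := fun n => Submodule.span_mono (Set.image_subset_range _ _)
  let P : Subalgebra k (UniversalEnvelopingAlgebra k L) :=
    { carrier := {u | ∀ s ∈ S, u * s ∈ S}
      mul_mem' := fun {u v} hu hv s hs => by rw [mul_assoc]; exact hu _ (hv s hs)
      add_mem' := fun {u v} hu hv s hs => by rw [add_mul]; exact Submodule.add_mem _ (hu s hs) (hv s hs)
      algebraMap_mem' := fun c s hs => by rw [← Algebra.smul_def]; exact Submodule.smul_mem _ _ hs }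
  have hι : ∀ x : L, UniversalEnvelopingAlgebra.ι k x ∈ P := by
    intro x
    rw [← b.linearCombination_repr x, Finsupp.linearCombination_apply, Finsupp.sum,
      ← LieHom.coe_toLinearMap, map_sum]
    refine Subalgebra.sum_mem _ fun q _ => ?_
    rw [map_smul]
    refine Subalgebra.smul_mem _ (fun s hs => ?_) _
    induction hs using Submodule.span_induction with
    | mem s hs =>
      obtain ⟨m, rfl⟩ := hs
      have := Submodule.add_mem S (hle _ (gen_mul_mon b _ q m le_rfl))
        (Submodule.subset_span ⟨ins q m, rfl⟩)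
      rwa [sub_add_cancel] at this
    | zero => simp
    | add u v _ _ hu hv => rw [mul_add]; exact Submodule.add_mem _ hu hv
    | smul c u _ hu => rw [mul_smul_comm]; exact Submodule.smul_mem _ _ hu
  rintro u -
  have hu : u ∈ P := by
    obtain ⟨t, rfl⟩ : ∃ t, mkAlgHom k L t = u := Quotient.mk_surjective u
    induction t using TensorAlgebra.induction with
    | algebraMap c => rw [AlgHom.commutes]; exact P.algebraMap_mem c
    | ι x => exact hι x
    | mul a c ha hc => rw [map_mul]; exact P.mul_mem ha hc
    | add a c ha hc => rw [map_add]; exact P.add_mem ha hc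
  have := hu 1 (Submodule.subset_span ⟨nil, mon_nil b⟩)
  rwa [mul_one] at this

/-- the Poincaré–Birkhoff–Witt basis -/
def basis : Module.Basis (Mon ι) k (UniversalEnvelopingAlgebra k L) :=
  Module.Basis.mk (linearIndependent_mon b) (span_mon b)

lemma basis_apply (m : Mon ι) : basis b m = mon b m := Module.Basis.mk_apply _ _ m

end Groth.Agent.PBWRing
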